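import Cfsg.Agent.Lib.Helper10.TGMono

set_option autoImplicit false

/-! Explicit signed permutations preserving the ternary code of length 12. -/

namespace Cfsg.Agent.Lib.Helper10

open Cfsg Cfsg.Agent.Lib.Helper34

/-- the position with a given number -/
def apt (n : ℕ) : ArrayPt := (⟨n / 3 % 4, Nat.mod_lt _ (by norm_num)⟩, ((n % 3 : ℕ) : ZMod 3))

theorem apt_aidx : ∀ p, apt (aidx p) = p := by decide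
theorem aidx_apt : ∀ n < 12, aidx (apt n) = n := by decide

/-- a signed permutation given by tables: images, preimages, signs -/
abbrev Ent : Type := List ℕ × List ℕ × List ℕ

def fwd (e : Ent) (p : ArrayPt) : ArrayPt := apt (e.1.getD (aidx p) 0)
def bwd (e : Ent) (p : ArrayPt) : ArrayPt := apt (e.2.1.getD (aidx p) 0)
def sgn (e : Ent) (p : ArrayPt) : (ZMod 3)ˣ := if e.2.2.getD (aidx p) 0 = 0 then 1 else -1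

/-- the six unit vectors of the parameter space -/
def unitP6 : List P6 :=
  [(1, 0, 0, 0, 0, 0), (0, 1, 0, 0, 0, 0), (0, 0, 1, 0, 0, 0), (0, 0, 0, 1, 0, 0),
   (0, 0, 0, 0, 1, 0), (0, 0, 0, 0, 0, 1)]

theorem enc_lin (a : P6) : enc a = a.1 • enc (1, 0, 0, 0, 0, 0) + a.2.1 • enc (0, 1, 0, 0, 0, 0) +
    a.2.2.1 • enc (0, 0, 1, 0, 0, 0) + a.2.2.2.1 • enc (0, 0, 0, 1, 0, 0) +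
    a.2.2.2.2.1 • enc (0, 0, 0, 0, 1, 0) + a.2.2.2.2.2 • enc (0, 0, 0, 0, 0, 1) := by
  obtain ⟨a1, a2, a3, a4, a5, a6⟩ := a
  funext ⟨i, r⟩
  fin_cases i <;> fin_cases r <;> simp [enc] <;> ring

theorem act_add (w : W12) (x y : ArrayPt → ZMod 3) : act w (x + y) = act w x + act w y := by
  funext i
  simp only [act_apply, Pi.add_apply, mul_add]

theorem act_smul (w : W12) (c : ZMod 3) (x : ArrayPt → ZMod 3) : act w (c • x) = c • act w x := by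
  funext i
  simp only [act_apply, Pi.smul_apply, smul_eq_mul]
  ring

theorem mem_TG_of_units {w : W12} (h : ∀ b ∈ unitP6, act w (enc b) ∈ ternaryGolayCode) :
    w ∈ TG := by
  intro x hx
  obtain ⟨a, rfl⟩ := (mem_code_iff_enc x).1 hx
  rw [enc_lin a]
  simp only [act_add, act_smul]
  have h' := fun b hb => h b hb
  simp only [unitP6, List.mem_cons, List.not_mem_nil, or_false, forall_eq_or_imp, forall_eq] at h'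
  obtain ⟨h1, h2, h3, h4, h5, h6⟩ := h'
  exact add_mem (add_mem (add_mem (add_mem (add_mem (Submodule.smul_mem _ _ h1)
    (Submodule.smul_mem _ _ h2)) (Submodule.smul_mem _ _ h3)) (Submodule.smul_mem _ _ h4))
    (Submodule.smul_mem _ _ h5)) (Submodule.smul_mem _ _ h6)

/-- the tables describe a signed permutation preserving the code -/
def okE (e : Ent) : Prop :=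
  (∀ p, bwd e (fwd e p) = p) ∧ (∀ p, fwd e (bwd e p) = p) ∧
    ∀ b ∈ unitP6, Chk (fun i => (sgn e i : ZMod 3) * enc b (bwd e i))

instance : DecidablePred okE := fun e => by unfold okE; infer_instance

/-- the signed permutation of a table -/
def elE (e : Ent) (h : okE e) : W12 := ⟨sgn e, ⟨fwd e, bwd e, h.1, h.2.1⟩⟩

theorem elE_mem (e : Ent) (h : okE e) : elE e h ∈ TG := by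
  apply mem_TG_of_units
  intro b hb
  rw [mem_code_iff]
  exact h.2.2 b hb

theorem elE_right (e : Ent) (h : okE e) (p : ArrayPt) : (elE e h).right p = fwd e p := rfl

def tgEnts : List (List ℕ × List ℕ × List ℕ) := [
  ([0, 1, 2, 3, 4, 5, 6, 7, 8, 9, 10, 11], [0, 1, 2, 3, 4, 5, 6, 7, 8, 9, 10, 11], [0, 0, 0, 0, 0, 0, 0, 0, 0, 0, 0, 0]),
  ([1, 0, 2, 3, 4, 5, 11, 9, 10, 7, 8, 6], [1, 0, 2, 3, 4, 5, 11, 9, 10, 7, 8, 6], [0, 0, 0, 0, 0, 0, 0, 0, 0, 0, 0, 0]),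
  ([1, 2, 0, 3, 4, 5, 7, 8, 6, 11, 9, 10], [2, 0, 1, 3, 4, 5, 8, 6, 7, 10, 11, 9], [0, 0, 0, 0, 0, 0, 0, 0, 0, 0, 0, 0]),
  ([1, 2, 3, 0, 4, 5, 8, 7, 9, 10, 6, 11], [3, 0, 1, 2, 4, 5, 10, 7, 6, 8, 9, 11], [0, 1, 1, 0, 1, 1, 1, 0, 0, 1, 0, 0]),
  ([1, 2, 3, 4, 0, 5, 6, 10, 11, 7, 8, 9], [4, 0, 1, 2, 3, 5, 6, 9, 10, 11, 7, 8], [0, 1, 1, 0, 1, 1, 1, 0, 0, 1, 0, 0]),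
  ([1, 2, 3, 4, 5, 0, 7, 9, 8, 6, 11, 10], [5, 0, 1, 2, 3, 4, 9, 6, 8, 7, 11, 10], [0, 1, 1, 0, 1, 1, 1, 0, 0, 1, 0, 0]),
  ([1, 2, 3, 4, 7, 6, 0, 8, 10, 5, 9, 11], [6, 0, 1, 2, 3, 9, 5, 4, 7, 10, 8, 11], [0, 1, 0, 1, 1, 1, 1, 0, 0, 1, 0, 0]),
  ([1, 2, 3, 4, 9, 10, 11, 0, 7, 8, 6, 5], [7, 0, 1, 2, 3, 11, 10, 8, 9, 4, 5, 6], [0, 0, 1, 1, 1, 1, 1, 0, 0, 1, 0, 0]),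
  ([1, 2, 3, 4, 8, 11, 9, 6, 0, 10, 5, 7], [8, 0, 1, 2, 3, 10, 7, 11, 4, 6, 9, 5], [0, 0, 0, 0, 1, 1, 1, 0, 0, 1, 0, 0]),
  ([1, 2, 3, 4, 6, 7, 5, 11, 9, 0, 10, 8], [9, 0, 1, 2, 3, 6, 4, 5, 11, 8, 10, 7], [0, 1, 0, 1, 1, 1, 1, 0, 0, 1, 0, 0]),
  ([1, 2, 3, 4, 11, 8, 10, 7, 5, 9, 0, 6], [10, 0, 1, 2, 3, 8, 11, 7, 5, 9, 6, 4], [0, 0, 0, 0, 1, 1, 1, 0, 0, 1, 0, 0]),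
  ([1, 2, 3, 4, 10, 9, 8, 5, 6, 11, 7, 0], [11, 0, 1, 2, 3, 7, 8, 10, 6, 5, 4, 9], [0, 0, 1, 1, 1, 1, 1, 0, 0, 1, 0, 0]),
  ([0, 1, 2, 3, 4, 5, 6, 7, 8, 9, 10, 11], [0, 1, 2, 3, 4, 5, 6, 7, 8, 9, 10, 11], [0, 0, 0, 0, 0, 0, 0, 0, 0, 0, 0, 0]),
  ([0, 1, 2, 3, 4, 5, 6, 7, 8, 9, 10, 11], [0, 1, 2, 3, 4, 5, 6, 7, 8, 9, 10, 11], [0, 0, 0, 0, 0, 0, 0, 0, 0, 0, 0, 0]),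
  ([0, 2, 1, 3, 4, 5, 9, 10, 11, 6, 7, 8], [0, 2, 1, 3, 4, 5, 9, 10, 11, 6, 7, 8], [0, 0, 0, 0, 0, 0, 0, 0, 0, 0, 0, 0]),
  ([0, 2, 3, 1, 4, 5, 10, 9, 7, 8, 11, 6], [0, 3, 1, 2, 4, 5, 11, 8, 9, 7, 6, 10], [0, 1, 0, 1, 0, 0, 1, 0, 1, 1, 1, 0]),
  ([0, 2, 3, 4, 1, 5, 11, 8, 6, 9, 10, 7], [0, 4, 1, 2, 3, 5, 8, 11, 7, 9, 10, 6], [0, 1, 0, 1, 0, 0, 1, 0, 1, 1, 1, 0]),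
  ([0, 2, 3, 4, 5, 1, 9, 7, 10, 11, 6, 8], [0, 5, 1, 2, 3, 4, 10, 7, 11, 6, 8, 9], [0, 1, 0, 1, 0, 0, 1, 0, 1, 1, 1, 0]),
  ([0, 2, 3, 4, 9, 11, 1, 10, 8, 5, 7, 6], [0, 6, 1, 2, 3, 9, 11, 10, 8, 4, 7, 5], [0, 1, 1, 0, 0, 0, 1, 0, 1, 1, 1, 0]),
  ([0, 2, 3, 4, 7, 8, 6, 1, 9, 10, 11, 5], [0, 7, 1, 2, 3, 11, 6, 4, 5, 8, 9, 10], [1, 1, 0, 0, 0, 0, 1, 0, 1, 1, 1, 0]),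
  ([0, 2, 3, 4, 10, 6, 7, 11, 1, 8, 5, 9], [0, 8, 1, 2, 3, 10, 5, 6, 9, 11, 4, 7], [1, 1, 1, 1, 0, 0, 1, 0, 1, 1, 1, 0]),
  ([0, 2, 3, 4, 11, 9, 5, 6, 7, 1, 8, 10], [0, 9, 1, 2, 3, 6, 7, 8, 10, 5, 11, 4], [0, 1, 1, 0, 0, 0, 1, 0, 1, 1, 1, 0]),
  ([0, 2, 3, 4, 6, 10, 8, 9, 5, 7, 1, 11], [0, 10, 1, 2, 3, 8, 4, 9, 6, 7, 5, 11], [1, 1, 1, 1, 0, 0, 1, 0, 1, 1, 1, 0]),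
  ([0, 2, 3, 4, 8, 7, 10, 5, 11, 6, 9, 1], [0, 11, 1, 2, 3, 7, 9, 5, 4, 10, 6, 8], [1, 1, 0, 0, 0, 0, 1, 0, 1, 1, 1, 0]),
  ([0, 1, 2, 3, 4, 5, 6, 7, 8, 9, 10, 11], [0, 1, 2, 3, 4, 5, 6, 7, 8, 9, 10, 11], [0, 0, 0, 0, 0, 0, 0, 0, 0, 0, 0, 0]),
  ([0, 1, 2, 3, 4, 5, 6, 7, 8, 9, 10, 11], [0, 1, 2, 3, 4, 5, 6, 7, 8, 9, 10, 11], [0, 0, 0, 0, 0, 0, 0, 0, 0, 0, 0, 0]),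
  ([0, 1, 2, 3, 4, 5, 6, 7, 8, 9, 10, 11], [0, 1, 2, 3, 4, 5, 6, 7, 8, 9, 10, 11], [0, 0, 0, 0, 0, 0, 0, 0, 0, 0, 0, 0]),
  ([0, 1, 3, 2, 4, 5, 7, 6, 10, 11, 8, 9], [0, 1, 3, 2, 4, 5, 7, 6, 10, 11, 8, 9], [1, 1, 0, 0, 1, 1, 0, 0, 1, 0, 1, 0]),
  ([0, 1, 3, 4, 2, 5, 8, 11, 9, 6, 7, 10], [0, 1, 4, 2, 3, 5, 9, 10, 6, 8, 11, 7], [1, 1, 0, 0, 1, 1, 0, 0, 1, 0, 1, 0]),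
  ([0, 1, 3, 4, 5, 2, 6, 10, 7, 8, 9, 11], [0, 1, 5, 2, 3, 4, 6, 8, 9, 10, 7, 11], [1, 1, 0, 0, 1, 1, 0, 0, 1, 0, 1, 0]),
  ([0, 1, 3, 4, 6, 8, 2, 7, 11, 5, 10, 9], [0, 1, 6, 2, 3, 9, 4, 7, 5, 11, 10, 8], [1, 0, 0, 1, 1, 1, 0, 0, 1, 0, 1, 0]),
  ([0, 1, 3, 4, 10, 11, 9, 2, 6, 7, 8, 5], [0, 1, 7, 2, 3, 11, 8, 9, 10, 6, 4, 5], [0, 1, 0, 1, 1, 1, 0, 0, 1, 0, 1, 0]),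
  ([0, 1, 3, 4, 7, 9, 10, 8, 2, 11, 5, 6], [0, 1, 8, 2, 3, 10, 11, 4, 7, 5, 6, 9], [0, 0, 0, 0, 1, 1, 0, 0, 1, 0, 1, 0]),
  ([0, 1, 3, 4, 8, 6, 5, 9, 10, 2, 11, 7], [0, 1, 9, 2, 3, 6, 5, 11, 4, 7, 8, 10], [1, 0, 0, 1, 1, 1, 0, 0, 1, 0, 1, 0]),
  ([0, 1, 3, 4, 9, 7, 11, 6, 5, 10, 2, 8], [0, 1, 10, 2, 3, 8, 7, 5, 11, 4, 9, 6], [0, 0, 0, 0, 1, 1, 0, 0, 1, 0, 1, 0]),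
  ([0, 1, 3, 4, 11, 10, 7, 5, 8, 9, 6, 2], [0, 1, 11, 2, 3, 7, 10, 6, 8, 9, 5, 4], [0, 1, 0, 1, 1, 1, 0, 0, 1, 0, 1, 0]),
  ([0, 1, 2, 3, 4, 5, 6, 7, 8, 9, 10, 11], [0, 1, 2, 3, 4, 5, 6, 7, 8, 9, 10, 11], [0, 0, 0, 0, 0, 0, 0, 0, 0, 0, 0, 0]),
  ([0, 1, 2, 3, 4, 5, 6, 7, 8, 9, 10, 11], [0, 1, 2, 3, 4, 5, 6, 7, 8, 9, 10, 11], [0, 0, 0, 0, 0, 0, 0, 0, 0, 0, 0, 0]),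
  ([0, 1, 2, 3, 4, 5, 6, 7, 8, 9, 10, 11], [0, 1, 2, 3, 4, 5, 6, 7, 8, 9, 10, 11], [0, 0, 0, 0, 0, 0, 0, 0, 0, 0, 0, 0]),
  ([0, 1, 2, 3, 4, 5, 6, 7, 8, 9, 10, 11], [0, 1, 2, 3, 4, 5, 6, 7, 8, 9, 10, 11], [0, 0, 0, 0, 0, 0, 0, 0, 0, 0, 0, 0]),
  ([0, 1, 2, 4, 3, 5, 10, 9, 11, 7, 6, 8], [0, 1, 2, 4, 3, 5, 10, 9, 11, 7, 6, 8], [0, 0, 0, 0, 0, 0, 0, 0, 0, 0, 0, 0]),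
  ([0, 1, 2, 4, 5, 3, 7, 8, 6, 10, 11, 9], [0, 1, 2, 5, 3, 4, 8, 6, 7, 11, 9, 10], [0, 0, 0, 0, 0, 0, 0, 0, 0, 0, 0, 0]),
  ([0, 1, 2, 4, 7, 10, 3, 6, 9, 5, 8, 11], [0, 1, 2, 6, 3, 9, 7, 4, 10, 8, 5, 11], [0, 1, 1, 0, 0, 0, 0, 0, 0, 0, 0, 0]),
  ([0, 1, 2, 4, 8, 9, 11, 3, 7, 6, 10, 5], [0, 1, 2, 7, 3, 11, 9, 8, 4, 5, 10, 6], [1, 0, 1, 0, 0, 0, 0, 0, 0, 0, 0, 0]),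
  ([0, 1, 2, 4, 6, 11, 8, 10, 3, 9, 5, 7], [0, 1, 2, 8, 3, 10, 4, 11, 6, 9, 7, 5], [1, 1, 0, 0, 0, 0, 0, 0, 0, 0, 0, 0]),
  ([0, 1, 2, 4, 10, 7, 5, 11, 8, 3, 9, 6], [0, 1, 2, 9, 3, 6, 11, 5, 8, 10, 4, 7], [0, 1, 1, 0, 0, 0, 0, 0, 0, 0, 0, 0]),
  ([0, 1, 2, 4, 11, 6, 9, 7, 5, 8, 3, 10], [0, 1, 2, 10, 3, 8, 5, 7, 9, 6, 11, 4], [1, 1, 0, 0, 0, 0, 0, 0, 0, 0, 0, 0]),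
  ([0, 1, 2, 4, 9, 8, 6, 5, 10, 11, 7, 3], [0, 1, 2, 11, 3, 7, 6, 10, 5, 4, 8, 9], [1, 0, 1, 0, 0, 0, 0, 0, 0, 0, 0, 0]),
  ([0, 1, 2, 3, 4, 5, 6, 7, 8, 9, 10, 11], [0, 1, 2, 3, 4, 5, 6, 7, 8, 9, 10, 11], [0, 0, 0, 0, 0, 0, 0, 0, 0, 0, 0, 0]),
  ([0, 1, 2, 3, 4, 5, 6, 7, 8, 9, 10, 11], [0, 1, 2, 3, 4, 5, 6, 7, 8, 9, 10, 11], [0, 0, 0, 0, 0, 0, 0, 0, 0, 0, 0, 0]),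
  ([0, 1, 2, 3, 4, 5, 6, 7, 8, 9, 10, 11], [0, 1, 2, 3, 4, 5, 6, 7, 8, 9, 10, 11], [0, 0, 0, 0, 0, 0, 0, 0, 0, 0, 0, 0]),
  ([0, 1, 2, 3, 4, 5, 6, 7, 8, 9, 10, 11], [0, 1, 2, 3, 4, 5, 6, 7, 8, 9, 10, 11], [0, 0, 0, 0, 0, 0, 0, 0, 0, 0, 0, 0]),
  ([0, 1, 2, 3, 4, 5, 6, 7, 8, 9, 10, 11], [0, 1, 2, 3, 4, 5, 6, 7, 8, 9, 10, 11], [0, 0, 0, 0, 0, 0, 0, 0, 0, 0, 0, 0]),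
  ([0, 1, 2, 3, 5, 4, 9, 11, 10, 6, 8, 7], [0, 1, 2, 3, 5, 4, 9, 11, 10, 6, 8, 7], [0, 0, 0, 0, 0, 0, 0, 0, 0, 0, 0, 0]),
  ([0, 1, 2, 3, 9, 6, 4, 10, 7, 5, 11, 8], [0, 1, 2, 3, 6, 9, 5, 8, 11, 4, 7, 10], [0, 1, 1, 0, 0, 0, 0, 0, 0, 0, 0, 0]),
  ([0, 1, 2, 3, 11, 7, 8, 4, 9, 10, 6, 5], [0, 1, 2, 3, 7, 11, 10, 5, 6, 8, 9, 4], [1, 0, 1, 0, 0, 0, 0, 0, 0, 0, 0, 0]),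
  ([0, 1, 2, 3, 10, 8, 11, 6, 4, 7, 5, 9], [0, 1, 2, 3, 8, 10, 7, 9, 5, 11, 4, 6], [1, 1, 0, 0, 0, 0, 0, 0, 0, 0, 0, 0]),
  ([0, 1, 2, 3, 6, 9, 5, 8, 11, 4, 7, 10], [0, 1, 2, 3, 9, 6, 4, 10, 7, 5, 11, 8], [0, 1, 1, 0, 0, 0, 0, 0, 0, 0, 0, 0]),
  ([0, 1, 2, 3, 8, 10, 7, 9, 5, 11, 4, 6], [0, 1, 2, 3, 10, 8, 11, 6, 4, 7, 5, 9], [1, 1, 0, 0, 0, 0, 0, 0, 0, 0, 0, 0]),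
  ([0, 1, 2, 3, 7, 11, 10, 5, 6, 8, 9, 4], [0, 1, 2, 3, 11, 7, 8, 4, 9, 10, 6, 5], [1, 0, 1, 0, 0, 0, 0, 0, 0, 0, 0, 0])]

def tgF : List ℕ × List ℕ × List ℕ := ([7, 5, 8, 9, 11, 1, 10, 0, 2, 3, 6, 4], [7, 5, 8, 9, 11, 1, 10, 0, 2, 3, 6, 4], [0, 1, 0, 1, 1, 0, 0, 1, 1, 0, 1, 0])

theorem tgF_ok : okE tgF := by decide +kernel

theorem tgEnts_ok : ∀ e ∈ tgEnts, okE e := by decide +kernel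

end Cfsg.Agent.Lib.Helper10
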